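import Groth.Agent.Lib.HopfAG.FF
import Mathlib.RingTheory.HopfAlgebra.GroupLike
import Mathlib.RingTheory.HopfAlgebra.MonoidAlgebra
import Mathlib.RingTheory.Bialgebra.MonoidAlgebra
import Mathlib.RingTheory.FiniteType
import Mathlib.RingTheory.Noetherian.Basic
import Mathlib.GroupTheory.QuotientGroup.Basic

/-!
# The group of group-like elements of a finitely generated Hopf algebra is finitely generated
-/

universe u

open MonoidAlgebra

namespace GrothLib.CharFG28

variable (k A : Type u) [Field k] [CommRing A] [HopfAlgebra k A]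

theorem liftGroupLike_injective :
    Function.Injective (MonoidAlgebra.liftGroupLikeBialgHom (R := k) (A := A)) := by
  have hli : LinearIndependent k (GroupLike.val : GroupLike k A → A) :=
    (linearIndepOn_isGroupLikeElem (R := k) (A := A)).linearIndependent.comp
      (fun g : GroupLike k A => (⟨g.1, g.2⟩ : {a : A | IsGroupLikeElem k a}))
      fun g h e => GroupLike.val_injective (congrArg Subtype.val e)
  refine (injective_iff_map_eq_zero _).mpr fun x hx => ?_
  have : (MonoidAlgebra.liftGroupLikeBialgHom (R := k) (A := A)) x =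
      Finsupp.linearCombination k (GroupLike.val : GroupLike k A → A) x.coeff := by
    clear hx
    induction x using MonoidAlgebra.induction_linear with
    | zero => simp
    | add a b ha hb => simp [map_add, ha, hb]
    | single m r => simp
  rw [this] at hx
  have h0 := linearIndependent_iff.mp hli _ hx
  exact MonoidAlgebra.coeff_injective (h0.trans MonoidAlgebra.coeff_zero.symm)

theorem fg_groupLike [Algebra.FiniteType k A] : Group.FG (GroupLike k A) := by
  classical
  haveI : IsNoetherianRing A := Algebra.FiniteType.isNoetherianRing k A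
  obtain ⟨t, ht, hJ⟩ := Submodule.fg_span_iff_fg_span_finset_subset _ |>.mp
    (IsNoetherian.noetherian (Ideal.span (Set.range fun g : GroupLike k A => (g : A) - 1)))
  choose g hg using fun x : t => ht x.2
  let s : Set (GroupLike k A) := Set.range g
  refine ⟨Subgroup.fg_iff _ |>.mpr ⟨s, ?_, Set.finite_range _⟩⟩
  rw [eq_top_iff]
  intro χ _
  let M := Subgroup.closure (insert χ s)
  haveI : Group.FG M := (Group.fg_iff_subgroup_fg M).mpr
    (Subgroup.fg_iff _ |>.mpr ⟨insert χ s, rfl, (Set.finite_range _).insert χ⟩)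
  haveI : Monoid.FG M := Group.fg_iff_monoid_fg.mp ‹_›
  let f : MonoidAlgebra k M →ₐc[k] A :=
    (MonoidAlgebra.liftGroupLikeBialgHom (R := k) (A := A)).comp (mapDomainBialgHom k M.subtype)
  have hf : Function.Injective f :=
    (liftGroupLike_injective k A).comp (MonoidAlgebra.mapDomain_injective M.subtype_injective)
  have hff : (f : MonoidAlgebra k M →+* A).FaithfullyFlat :=
    GrothLib.HopfAG.faithfullyFlat_of_injective f hf
  have hmem : ∀ (x : GroupLike k A) (hx : x ∈ M), f (single ⟨x, hx⟩ 1 - 1) = (x : A) - 1 := fun x hx => by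
    simp [f]
  let S : Set (MonoidAlgebra k M) :=
    Set.range fun x : t => single (⟨g x, Subgroup.subset_closure (Or.inr ⟨x, rfl⟩)⟩ : M) (1 : k) - 1
  have hχM : χ ∈ M := Subgroup.subset_closure (Or.inl rfl)
  have hin : single (⟨χ, hχM⟩ : M) (1 : k) - 1 ∈ Ideal.span S := by
    algebraize [(f : MonoidAlgebra k M →+* A)]
    rw [← Ideal.comap_map_eq_self_of_faithfullyFlat (B := A) (Ideal.span S), Ideal.mem_comap, Ideal.map_span]
    show f _ ∈ _
    rw [hmem χ hχM]
    have : (χ : A) - 1 ∈ Ideal.span (t : Set A) := by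
      rw [Ideal.span, ← hJ]; exact Ideal.subset_span ⟨χ, rfl⟩
    refine Ideal.span_mono (fun y hy => ?_) this
    exact ⟨_, ⟨⟨y, hy⟩, rfl⟩, (hmem _ _).trans (hg ⟨y, hy⟩)⟩
  let M₀ : Subgroup M := (Subgroup.closure s).subgroupOf M
  let π := MonoidAlgebra.mapDomainAlgHom k k (QuotientGroup.mk' M₀)
  have h0 : Ideal.span S ≤ RingHom.ker π := by
    rw [Ideal.span_le]
    rintro _ ⟨x, rfl⟩
    have : ((⟨g x, Subgroup.subset_closure (Or.inr ⟨x, rfl⟩)⟩ : M) : M ⧸ M₀) = 1 :=
      (QuotientGroup.eq_one_iff _).mpr (Subgroup.subset_closure ⟨x, rfl⟩)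
    show π (_ - 1) = 0
    rw [map_sub, map_one, sub_eq_zero]
    show MonoidAlgebra.mapDomain (QuotientGroup.mk' M₀) _ = _
    rw [MonoidAlgebra.mapDomain_single, QuotientGroup.mk'_apply, this, MonoidAlgebra.one_def]
  have h1 : π (single (⟨χ, hχM⟩ : M) (1 : k) - 1) = 0 := h0 hin
  rw [map_sub, map_one, sub_eq_zero] at h1
  change MonoidAlgebra.mapDomain (QuotientGroup.mk' M₀) _ = _ at h1
  rw [MonoidAlgebra.mapDomain_single, MonoidAlgebra.one_def, MonoidAlgebra.single_left_inj one_ne_zero,
    QuotientGroup.mk'_apply, QuotientGroup.eq_one_iff, Subgroup.mem_subgroupOf] at h1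
  exact h1

end GrothLib.CharFG28
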