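import Groth.Agent.Lib.CharFG28.GroupLike
import Groth.Agent.Lib.Repr.GmChar
import Groth.Prelude.Def_CGrpSh2
import Mathlib.AlgebraicGeometry.Group.Affine
import Mathlib.AlgebraicGeometry.Morphisms.FiniteType

/-!
# Characters of an affine group of finite type over a field form a finitely generated group
-/

universe u

open CategoryTheory MonoidalCategory CartesianMonoidalCategory MonObj GrpObj AlgebraicGeometry Opposite

noncomputable section

namespace GrothLib.CharFG28

section yoneda

variable {S : Scheme.{u}} (K : Precoverage Scheme.{u}) [(QuotSh.J K S).Subcanonical]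
  {G H : Over S} [GrpObj G] [IsCommMonObj G] [GrpObj H] [IsCommMonObj H]

variable {K}

/-- The morphism of schemes under a morphism of sheaves of points. -/
def schHom (φ : CGrpSh.pts K G ⟶ CGrpSh.pts K H) : G ⟶ H :=
  ((φ.hom.app (op G)) (ULift.up (Additive.ofMul (𝟙 G)))).down.toMul

theorem app_eq (φ : CGrpSh.pts K G ⟶ CGrpSh.pts K H) (T : Over S) (x : T ⟶ G) :
    (φ.hom.app (op T)) (ULift.up (Additive.ofMul x)) = ULift.up (Additive.ofMul (x ≫ schHom φ)) := by
  have h := ConcreteCategory.congr_hom (φ.hom.naturality x.op) (ULift.up (Additive.ofMul (𝟙 G)))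
  refine Eq.trans ?_ (h.trans ?_)
  · congr 1
    all_goals exact congrArg (fun y => ULift.up (Additive.ofMul y)) (Category.comp_id x).symm
  · rfl

theorem mul_comp_schHom (φ : CGrpSh.pts K G ⟶ CGrpSh.pts K H) (T : Over S) (a b : T ⟶ G) :
    (a * b) ≫ schHom φ = (a ≫ schHom φ) * (b ≫ schHom φ) := by
  have h : (φ.hom.app (op T)) (ULift.up (Additive.ofMul (a * b))) =
      (φ.hom.app (op T)) (ULift.up (Additive.ofMul a)) + (φ.hom.app (op T)) (ULift.up (Additive.ofMul b)) :=
    map_add (φ.hom.app (op T)).hom _ _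
  rw [app_eq, app_eq, app_eq] at h
  exact congrArg (fun z => (ULift.down z).toMul) h

theorem schHom_add (φ ψ : CGrpSh.pts K G ⟶ CGrpSh.pts K H) : schHom (φ + ψ) = schHom φ * schHom ψ := rfl

theorem schHom_injective : Function.Injective (schHom (K := K) (G := G) (H := H)) := by
  intro φ ψ h
  apply Sheaf.hom_ext
  ext T x
  have key : ∀ y : ULift (Additive (unop T ⟶ G)), (φ.hom.app T) y = (ψ.hom.app T) y := fun y =>
    (app_eq φ _ y.down.toMul).trans
      ((congrArg (fun m => ULift.up (Additive.ofMul (y.down.toMul ≫ m))) h).trans (app_eq ψ _ y.down.toMul).symm)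
  exact key x

theorem isMonHom_schHom (φ : CGrpSh.pts K G ⟶ CGrpSh.pts K H) : IsMonHom (schHom φ) := by
  refine GrothLib.GrpSchField.isMonHom_of_mul _ ?_
  have h := mul_comp_schHom φ (G ⊗ G) (fst G G) (snd G G)
  rw [Hom.mul_def, Hom.mul_def, lift_fst_snd, Category.id_comp, ← lift_map_assoc, lift_fst_snd, Category.id_comp] at h
  exact h

end yoneda

theorem fg_characters (k : Type u) [Field k] (G : Over (Spec (CommRingCat.of k))) [GrpObj G] [IsCommMonObj G]
    [IsAffine G.left] [LocallyOfFiniteType G.hom] :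
    AddGroup.FG ((CGrpSh.pts Scheme.fppfPrecoverage G) ⟶ (CGrpSh2.Gm Scheme.fppfPrecoverage (Spec (CommRingCat.of k)))) := by
  obtain ⟨A', ⟨e⟩⟩ := (essImage_hopfSpec (R := CommRingCat.of k) (G := Grp.mk G)).2 ‹_›
  obtain ⟨A, rfl⟩ : ∃ A, Opposite.op A = A' := ⟨A'.unop, rfl⟩
  let C : Type u := A
  let i : GrothLib.Repr.Aff k C ≅ G := (Grp.forget _).mapIso e
  haveI hi : IsMonHom i.hom := e.hom.hom.isMonHom_hom
  haveI : Algebra.FiniteType k C := by
    have hP : (GrothLib.Repr.Aff k C).hom = i.hom.left ≫ G.hom := (Over.w i.hom).symm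
    have : LocallyOfFiniteType (GrothLib.Repr.Aff k C).hom := by rw [hP]; infer_instance
    exact RingHom.finiteType_algebraMap.mp ((HasRingHomProperty.Spec_iff (P := @LocallyOfFiniteType)).mp this)
  have key : ∀ φ : (CGrpSh.pts Scheme.fppfPrecoverage G) ⟶ (CGrpSh2.Gm Scheme.fppfPrecoverage (Spec (CommRingCat.of k))),
      IsGroupLikeElem k (((GrothLib.Repr.gmPt k (R := C)).symm (i.hom ≫ schHom φ) : Cˣ) : C) := fun φ => by
    haveI := isMonHom_schHom φ
    have hc : IsMonHom (i.hom ≫ schHom φ) :=
      { one_hom := (Category.assoc _ _ _).symm.trans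
          ((congrArg (· ≫ schHom φ) hi.one_hom).trans (IsMonHom.one_hom (schHom φ)))
        mul_hom := (Category.assoc _ _ _).symm.trans ((congrArg (· ≫ schHom φ) hi.mul_hom).trans
          ((Category.assoc _ _ _).trans ((congrArg ((i.hom ⊗ₘ i.hom) ≫ ·) (IsMonHom.mul_hom (schHom φ))).trans
            (tensorHom_comp_tensorHom_assoc _ _ _ _ _)))) }
    haveI : IsMonHom (GrothLib.Repr.charOfUnit (k := k) ((GrothLib.Repr.gmPt k (R := C)).symm (i.hom ≫ schHom φ))) := by
      rw [GrothLib.Repr.charOfUnit, MulEquiv.apply_symm_apply]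
      exact hc
    exact GrothLib.Repr.isGroupLike_of_isMonHom _
  let Φ : ((CGrpSh.pts Scheme.fppfPrecoverage G) ⟶ (CGrpSh2.Gm Scheme.fppfPrecoverage (Spec (CommRingCat.of k)))) →+
      Additive (GroupLike k C) :=
    { toFun := fun φ => Additive.ofMul ⟨_, key φ⟩
      map_zero' := by
        apply Additive.toMul.injective
        refine GroupLike.val_injective ?_
        have h0 : schHom (K := Scheme.fppfPrecoverage) (G := G) (H := Red.Gm (Spec (CommRingCat.of k))) 0 = 1 := rfl
        show (((GrothLib.Repr.gmPt k (R := C)).symm (i.hom ≫ schHom 0) : Cˣ) : C) = 1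
        rw [h0, MonObj.comp_one, map_one, Units.val_one]
      map_add' := fun φ ψ => by
        apply Additive.toMul.injective
        refine GroupLike.val_injective ?_
        show (((GrothLib.Repr.gmPt k (R := C)).symm (i.hom ≫ schHom (φ + ψ)) : Cˣ) : C) = _
        rw [schHom_add, MonObj.comp_mul, map_mul, Units.val_mul]
        rfl }
  haveI := fg_groupLike k C
  haveI : AddGroup.FG (Additive (GroupLike k C)) := GroupFG.iff_add_fg.mp inferInstance
  have hΦ : Function.Injective Φ := fun φ ψ h => by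
    refine schHom_injective ((cancel_epi i.hom).mp ((GrothLib.Repr.gmPt k (R := C)).symm.injective (Units.ext ?_)))
    exact congrArg (fun z => GroupLike.val (Additive.toMul z)) h
  haveI : Module.Finite ℤ (Additive (GroupLike k C)) := Module.Finite.iff_addGroup_fg.mpr ‹_›
  exact Module.Finite.iff_addGroup_fg.mp (Module.Finite.of_injective Φ.toIntLinearMap hΦ)

end GrothLib.CharFG28
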